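import Cfsg.Agent.PG.BG10.Tools

/-!
Bender-Glauberman, section 10: generic facts on `α(M)`, `β(M)`, `σ(M)`.
-/

set_option autoImplicit false
set_option linter.unusedSectionVars false

open Pointwise Cfsg Cfsg.Lib.Solv

namespace Cfsg.Lib.FT.PG

variable {G : Type*} [Group G] [Dl G] [Finite G]

theorem mem_sigma_iff {M : Subgroup G} {p : ℕ} :
    p ∈ sigma M ↔ p.Prime ∧ p ∣ Nat.card M ∧ (∃ P, IsSylowOf p P M ∧ 𝐍 P ≤ M) ∧ p ∈ dl G := by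
  constructor
  · rintro ⟨hp, hd, ⟨P, hP⟩, hΔ⟩
    exact ⟨hp, hd, ⟨_, X10.syl_of_sylow hp P, hP⟩, hΔ⟩
  · rintro ⟨hp, hd, ⟨P, hP, hN⟩, hΔ⟩
    obtain ⟨S, rfl⟩ := X10.exists_sylow_of_syl hp hP
    exact ⟨hp, hd, ⟨S, hN⟩, hΔ⟩

omit [Finite G] in
theorem sigma_prime {M : Subgroup G} {p : ℕ} (h : p ∈ sigma M) : p.Prime := h.1

theorem sigmaJ (g : G) (H : Subgroup G) : sigma (g •ᶜ H) = sigma H := by
  have key : ∀ (g : G) (H : Subgroup G), sigma H ⊆ sigma (g •ᶜ H) := by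
    intro g H p hp
    obtain ⟨hp, hd, ⟨P, hP, hN⟩, hΔ⟩ := mem_sigma_iff.1 hp
    refine mem_sigma_iff.2 ⟨hp, by rwa [card_conj_smul], ⟨g •ᶜ P, (pHallJ2 g).2 hP, ?_⟩, hΔ⟩
    rw [normJ, conjSg]
    exact hN
  refine Set.Subset.antisymm ?_ (key g H)
  have := key g⁻¹ (g •ᶜ H)
  rwa [conj_inv_smul_conj_smul] at this

theorem MsigmaJ (g : G) (H : Subgroup G) : sigmaCore (g •ᶜ H) = g •ᶜ sigmaCore H := by
  rw [sigmaCore_def, sigmaCore_def, sigmaJ, pcoreJ]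

omit [Finite G] in
theorem Msigma_normal (M : Subgroup G) : sigmaCore M ⊲ M := pcore_normal _ M
theorem Msigma_pgroup (M : Subgroup G) : IsPiSubgroup (sigma M) (sigmaCore M) := pcore_pgroup _ M

omit [Finite G] in
theorem sigma_sub_pi (M : Subgroup G) : sigma M ⊆ piOf (Nat.card M) := fun _ h => ⟨h.1, h.2.1⟩

theorem norm_sigma_Sylow {M P : Subgroup G} {p : ℕ} (hp : p ∈ sigma M) (hP : IsSylowOf p P M) :
    𝐍 P ≤ M := by
  obtain ⟨hp, -, ⟨Q, hQ, hN⟩, -⟩ := mem_sigma_iff.1 hp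
  obtain ⟨g, hg, rfl⟩ := X10.syl_trans hp hQ hP
  rw [normJ]
  exact conj_subG hg hN

theorem sigma_Sylow_G {M P : Subgroup G} {p : ℕ} (hp : p ∈ sigma M) (hP : IsSylowOf p P M) :
    IsSylowOf p P ⊤ := by
  refine X10.syl_of_norm hp.1 le_top ?_
  rw [top_inf_eq]
  exact pHall_subl (normG P) (norm_sigma_Sylow hp hP) hP

theorem sigma_Sylow_neq1 {M P : Subgroup G} {p : ℕ} (hp : p ∈ sigma M) (hP : IsSylowOf p P M) :
    P ≠ ⊥ := fun h => (X10.syl_eq_bot_iff hp.1 hP).1 h hp.2.1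

/-- introduction rule for `σ(M)`, for a proper subgroup `M` -/
theorem mem_sigma_of_Sylow {M P : Subgroup G} {p : ℕ} (hM : Loc M) (hp : p.Prime)
    (hP : IsSylowOf p P M) (hN : 𝐍 P ≤ M) (hΔ : p ∈ dl G := by dlt)
    (hG : Ctx G := by assumption) : p ∈ sigma M := by
  refine mem_sigma_iff.2 ⟨hp, ?_, ⟨P, hP, hN⟩, hΔ⟩
  by_contra hd
  rw [(X10.syl_eq_bot_iff hp hP).2 hd, norm_bot] at hN
  exact hM.ne_top hG (top_le_iff.1 hN)

theorem sigma'_Sylow_contra {M P : Subgroup G} {p : ℕ} (hM : Loc M) (hp : p.Prime)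
    (hσ : p ∉ sigma M) (hP : IsSylowOf p P M) (h : 𝐍 P ≤ M) (hΔ : p ∈ dl G := by dlt)
    (hG : Ctx G := by assumption) : False :=
  hσ (mem_sigma_of_Sylow hM hp hP h hΔ hG)

/-- BG 10.1(d). -/
theorem sigma_Sylow_trans {M X : Subgroup G} {p : ℕ} {g : G} (hp : p ∈ sigma M)
    (hX : IsSylowOf p X M) (hg : g •ᶜ X ≤ M) : g ∈ M := by
  have h1 : IsSylowOf p (g •ᶜ X) M := pHall_of_card hX hg (card_conj_smul g X)
  obtain ⟨m, hm, e⟩ := X10.syl_trans hp.1 h1 hX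
  rw [← conj_mul_smul] at e
  have := norm_sigma_Sylow hp hX (normP.2 e)
  exact (Subgroup.mul_mem_cancel_left M hm).1 this

end Cfsg.Lib.FT.PG
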