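import Cfsg.Agent.PG.BG10.Core

/-!
Small facts on nilpotent sections, used in sections 10 and 11.
-/

set_option autoImplicit false
set_option linter.unusedSectionVars false
set_option maxHeartbeats 400000

open Pointwise Cfsg Cfsg.Lib.Solv

namespace Cfsg.Lib.FT.PG.X10

open Cfsg.Lib.FT.X10

variable {G : Type*} [Group G] [Dl G] [Finite G] {π : Set ℕ} {H K L M N X Y : Subgroup G}

/-- If `π ⊆ σ(M)`, a Hall `π`-subgroup of `M` is a Hall `π`-subgroup of `G`. -/
theorem hall_G_of_sub_sigma (hπ : π ⊆ sigma M) (hK : IsPiHallOf π K M) : IsPiHallOf π K ⊤ := by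
  refine pHall_trans hK le_top fun r hr hd hrπ => ?_
  obtain ⟨P, hP⟩ := syl_exists hr M
  exact syl_not_dvd hr (sigma_Sylow_G (hπ hrπ) hP)
    (hd.trans (Subgroup.relIndex_dvd_of_le_left ⊤ hP.1))

end Cfsg.Lib.FT.PG.X10
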