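import Cfsg.Agent.PG.BG9
import Cfsg.Agent.PG.BG10.Core

/-!
Bender-Glauberman, section 10: `α(M) ⊆ σ(M)`, ideal primes, Theorem 10.1.
-/

set_option autoImplicit false
set_option linter.unusedSectionVars false

open Pointwise Cfsg Cfsg.Lib.Solv

namespace Cfsg.Lib.FT.PG

variable {G : Type*} [Group G] [Dl G] [Finite G]

theorem ideal_iff_not_narrow' (hG : Ctx G) {p : ℕ} {P : Subgroup G} (hp : p.Prime)
    (hP : IsSylowOf p P ⊤) (hd : p ∈ dl G := by dlt) : IsIdealPrime p G ↔ ¬ IsNarrow p P := by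
  rw [isIdealPrime_iff_Sylow hp hP, narrow_pmaxElemP hp (X10.syl_pgroup hp hP)
    (DG.odd hG (dg_of_sylow hP hd))]
  push Not
  rfl

theorem alpha_sub_sigma (hG : Ctx G) {M : Subgroup G} (hM : Mx M) :
    alpha M ⊆ sigma M := by
  intro p hα
  obtain ⟨hp, hr⟩ := mem_alpha_iff.1 hα
  have hd := alpha_dl hG hM.1 hα
  obtain ⟨P, hP⟩ := X10.syl_exists hp M
  have hPp := X10.syl_pgroup hp hP
  have hPt := X10.pgroup_ne_top hG hp hPp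
  have hr' : 3 ≤ rank P := by rw [X10.rank_pgroup hp hPp, X10.pRank_syl hp hP]; omega
  have hP1 : P ≠ ⊥ := fun h => (X10.syl_eq_bot_iff hp hP).1 h
    ((X10.pRank_pos_iff hp).1 (by omega))
  exact mem_sigma_of_Sylow hM.1 hp hP (X10.uniq_sub (rank3_Uniqueness hG hPt hr') hM hP.1
    (normG P) (X10.norm_ne_top hG hP1 (dg_of_sylow hP hd)))

theorem beta_sub_sigma (hG : Ctx G) {M : Subgroup G} (hM : Mx M) :
    beta M ⊆ sigma M := (beta_sub_alpha M).trans (alpha_sub_sigma hG hM)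

theorem Malpha_sub_Msigma (hG : Ctx G) {M : Subgroup G} (hM : Mx M) :
    alphaCore M ≤ sigmaCore M := sub_pcore (alpha_sub_sigma hG hM) M

theorem Mbeta_sub_Msigma (hG : Ctx G) {M : Subgroup G} (hM : Mx M) :
    betaCore M ≤ sigmaCore M := sub_pcore (beta_sub_sigma hG hM) M

/-- For `p ∈ σ(M)` the `p`-ranks of `M` and `G` agree. -/
theorem sigma_pRank_G {M : Subgroup G} {p : ℕ} (hp : p ∈ sigma M) :
    pRank p M = pRank p (⊤ : Subgroup G) := by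
  obtain ⟨P, hP⟩ := X10.syl_exists hp.1 M
  rw [← X10.pRank_syl hp.1 hP, X10.pRank_syl hp.1 (sigma_Sylow_G hp hP)]

theorem predI_sigma_beta (hG : Ctx G) {M : Subgroup G} (hM : Mx M) :
    sigma M ∩ {p | IsIdealPrime p G} = beta M := by
  ext p
  constructor
  · rintro ⟨h1, h2⟩
    exact ⟨mem_alpha_iff.2 ⟨h1.1, sigma_pRank_G h1 ▸ (isIdealPrime_iff.1 h2).2.1⟩, h2⟩
  · intro h
    exact ⟨beta_sub_sigma hG hM h, h.2⟩

/-- MathComp's definition of `β(M)`: the Sylow `p`-subgroups of `M` are not narrow. -/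
theorem mem_beta_iff_not_narrow (hG : Ctx G) {M P : Subgroup G} (hM : Mx M)
    {p : ℕ} (hp : p.Prime) (hP : IsSylowOf p P M) : p ∈ beta M ↔ ¬ IsNarrow p P := by
  constructor
  · intro h
    exact (ideal_iff_not_narrow' hG hp (sigma_Sylow_G (beta_sub_sigma hG hM h) hP)
      (sigma_dl (beta_sub_sigma hG hM h))).1 h.2
  · intro h
    have hα : p ∈ alpha M := mem_alpha_iff.2 ⟨hp, by
      rw [← X10.pRank_syl hp hP]
      exact not_le.1 fun h' => h (rank2_narrow hp h')⟩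
    exact ⟨hα, (ideal_iff_not_narrow' hG hp
      (sigma_Sylow_G (alpha_sub_sigma hG hM hα) hP) (alpha_dl hG hM.1 hα)).2 h⟩

/-- The heart of BG 10.1: `C(X)` is transitive on the conjugates of `M` containing `X`. -/
theorem X10.sigma_trans_aux (hG : Ctx G) {M : Subgroup G} {p : ℕ}
    (hM : Mx M) (hσ : p ∈ sigma M) (X : Subgroup G) :
    IsPGroup p X → ∀ M₁ M₂ : Subgroup G, ConjIn ⊤ M M₁ → ConjIn ⊤ M M₂ → X ≤ M₁ → X ≤ M₂ →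
      ConjIn (𝐂 X) M₁ M₂ := by
  have hp := hσ.1
  induction X using WellFoundedGT.induction with
  | ind X ih =>
  intro hX M₁ M₂ h₁ h₂ hX₁ hX₂
  by_cases hX1 : X = ⊥
  · rw [hX1, cent_bot]
    exact h₁.symm.trans h₂
  have hσ' : ∀ M', ConjIn ⊤ M M' → p ∈ sigma M' := by
    rintro _ ⟨g, -, rfl⟩
    rwa [sigmaJ]
  -- the case of a Sylow subgroup
  have syl : ∀ M₁ M₂ : Subgroup G, ConjIn ⊤ M M₁ → ConjIn ⊤ M M₂ → X ≤ M₂ → IsSylowOf p X M₁ →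
      M₂ = M₁ := by
    intro M₁ M₂ h₁ h₂ hX₂ hS
    obtain ⟨g, -, rfl⟩ := h₁.symm.trans h₂
    have : g⁻¹ ∈ M₁ := sigma_Sylow_trans (hσ' _ h₁) hS
      (by rw [conj_smul_le_iff_le_conj_inv_smul, inv_inv]; exact hX₂)
    exact conjGid ((Subgroup.inv_mem_iff _).1 this)
  by_cases hS₁ : IsSylowOf p X M₁
  · rw [syl M₁ M₂ h₁ h₂ hX₂ hS₁]
    exact ConjIn.refl _ _
  by_cases hS₂ : IsSylowOf p X M₂
  · rw [syl M₂ M₁ h₂ h₁ hX₁ hS₂]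
    exact ConjIn.refl _ _
  have big : ∀ M' : Subgroup G, X ≤ M' → ¬ IsSylowOf p X M' →
      ∃ Y, IsSylowOf p Y (M' ⊓ 𝐍 X) ∧ X < Y := by
    intro M' hXM hS
    obtain ⟨Y, hY, hXY⟩ := X10.syl_superset hp hX (le_inf hXM (normG X))
    refine ⟨Y, hY, lt_of_le_of_ne hXY ?_⟩
    rintro rfl
    exact hS (X10.syl_of_norm hp hXM hY)
  obtain ⟨X₁, hS₁', hl₁⟩ := big M₁ hX₁ hS₁
  obtain ⟨X₂, hS₂', hl₂⟩ := big M₂ hX₂ hS₂
  have hX₁p := X10.syl_pgroup hp hS₁'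
  have hX₂p := X10.syl_pgroup hp hS₂'
  obtain ⟨P, hP, hX₁P⟩ := X10.syl_superset hp hX₁p (hS₁'.1.trans inf_le_right)
  have hPp := X10.syl_pgroup hp hP
  obtain ⟨t, ht, hX₂P⟩ := X10.syl_Jsub hp hP hX₂p (hS₂'.1.trans inf_le_right)
  -- a conjugate `M₃` of `M` containing `P`
  obtain ⟨M₃, h₃, hP₃⟩ : ∃ M₃, ConjIn ⊤ M M₃ ∧ P ≤ M₃ := by
    obtain ⟨S, hS⟩ := X10.syl_exists hp M
    obtain ⟨g, -, hg⟩ := X10.syl_Jsub hp (sigma_Sylow_G hσ hS) hPp le_top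
    exact ⟨g⁻¹ •ᶜ M, ⟨g⁻¹, trivial, rfl⟩,
      conj_smul_le_iff_le_conj_inv_smul.1 (hg.trans hS.1)⟩
  have hM₃ : Mx M₃ := by
    obtain ⟨g, -, rfl⟩ := h₃
    exact (mmaxJ g).2 hM
  have c₁ : ConjIn (𝐂 X) M₁ M₃ :=
    (ih X₁ hl₁ hX₁p M₁ M₃ h₁ h₃ (hS₁'.1.trans inf_le_left) (hX₁P.trans hP₃)).mono (centS hl₁.le)
  have h₄ : ConjIn ⊤ M (t⁻¹ •ᶜ M₃) := h₃.trans ⟨t⁻¹, trivial, rfl⟩
  have c₂ : ConjIn (𝐂 X) (t⁻¹ •ᶜ M₃) M₂ :=
    (ih X₂ hl₂ hX₂p _ M₂ h₄ h₂ (conj_smul_le_iff_le_conj_inv_smul.1 (hX₂P.trans hP₃))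
      (hS₂'.1.trans inf_le_left)).mono (centS hl₂.le)
  refine c₁.trans (ConjIn.trans ?_ c₂)
  have hL : Loc (𝐍 X) := X10.norm_ne_top hG hX1 (X10.pgroup_dg hG hp hX)
  by_cases hr : pRank p (𝐍 X) ≤ 2
  · have hpl := rank2_plength1 hp (X10.sol hG hL) (X10.odd hG _) hr
    have hF := (plength1_Frattini hp hP hpl).2
    have ht' : t⁻¹ ∈ piCoreOf {p}ᶜ (𝐍 X) ⊔ 𝐍 X ⊓ 𝐍 P := hF.symm ▸ inv_mem ht
    obtain ⟨v, hv, u, hu, e⟩ := (mem_sup_of_le_normalizer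
      (inf_le_left.trans (pcore_normal _ _).norm)).1 ht'
    have hvC : v ∈ 𝐂 X := by
      have h1 : X ≤ piCoreOf {p} (𝐍 X) := pcore_max ((X10.pgroup_iff hp).2 hX) (normalG X)
      exact centS h1 (p'core_cent_pcore {p} (𝐍 X) hv)
    have c₃ : ConjIn (𝐂 X) M₃ (u •ᶜ M₃) := by
      have hXP : X < P := hl₁.trans_le hX₁P
      refine (ih P hXP hPp M₃ _ h₃ (h₃.trans ⟨u, trivial, rfl⟩) hP₃ ?_).mono (centS hXP.le)
      rw [← normP.1 hu.2]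
      exact (conjSg u).2 hP₃
    rw [← e, conj_mul_smul]
    exact c₃.trans ⟨v, hvC, rfl⟩
  · have hr' : 3 ≤ rank P := by
      rw [X10.rank_pgroup hp hPp, X10.pRank_syl hp hP]
      omega
    have := X10.uniq_sub (rank3_Uniqueness hG (X10.pgroup_ne_top hG hp hPp) hr') hM₃ hP₃ hP.1 hL
    rw [conjGid (inv_mem (this ht))]
    exact ConjIn.refl _ _

/-- BG 10.1(a,b,c). -/
theorem sigma_group_trans (hG : Ctx G) {M X : Subgroup G} {p : ℕ}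
    (hM : Mx M) (hp : p ∈ sigma M) (hX : IsPGroup p X) :
    (∀ g : G, X ≤ M → g •ᶜ X ≤ M → ∃ m ∈ M, ∃ c ∈ 𝐂 X, g = m * c) ∧
      (∀ g h : G, X ≤ g •ᶜ M → X ≤ h •ᶜ M → ∃ c ∈ 𝐂 X, h •ᶜ M = c •ᶜ g •ᶜ M) ∧
      (X ≤ M → 𝐂 X ⊔ (M ⊓ 𝐍 X) = 𝐍 X) := by
  have hb : ∀ g h : G, X ≤ g •ᶜ M → X ≤ h •ᶜ M → ∃ c ∈ 𝐂 X, h •ᶜ M = c •ᶜ g •ᶜ M :=
    fun g h hg hh => X10.sigma_trans_aux hG hM hp X hX _ _ ⟨g, trivial, rfl⟩ ⟨h, trivial, rfl⟩ hg hh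
  have ha : ∀ g : G, X ≤ M → g •ᶜ X ≤ M → ∃ m ∈ M, ∃ c ∈ 𝐂 X, g = m * c := by
    intro g h1 h2
    obtain ⟨c, hc, e⟩ := hb 1 g⁻¹ (by rwa [conj_one_smul]) (conj_smul_le_iff_le_conj_inv_smul.1 h2)
    rw [conj_one_smul] at e
    have : (g * c) •ᶜ M = M := by rw [conj_mul_smul, ← e, conj_smul_conj_inv_smul]
    exact ⟨g * c, X10.mem_of_conj_eq hG hM this, c⁻¹, inv_mem hc, by group⟩
  refine ⟨ha, hb, fun hXM => le_antisymm (sup_le (cent_sub X) inf_le_right) fun g hg => ?_⟩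
  obtain ⟨m, hm, c, hc, rfl⟩ := ha g hXM (by rw [normP.1 hg]; exact hXM)
  exact mul_mem (Subgroup.mem_sup_right ⟨hm, (Subgroup.mul_mem_cancel_right _ (cent_sub X hc)).1 hg⟩)
    (Subgroup.mem_sup_left hc)

/-- BG 10.1(e). -/
theorem sigma_cent_sub_trans (hG : Ctx G) {M X : Subgroup G} {p : ℕ} {g : G}
    (hM : Mx M) (hp : p ∈ sigma M) (hX : IsPGroup p X) (hXM : X ≤ M) (hC : 𝐂 X ≤ M)
    (hg : g •ᶜ X ≤ M) : g ∈ M := by
  obtain ⟨m, hm, c, hc, rfl⟩ := (sigma_group_trans hG hM hp hX).1 g hXM hg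
  exact mul_mem hm (hC hc)

end Cfsg.Lib.FT.PG
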