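import Cfsg.Agent.PG.BG10.T8

/-!
Bender-Glauberman, section 10: Propositions 10.10, 10.11, Lemma 10.12, Proposition 10.14.
-/

set_option autoImplicit false
set_option linter.unusedSectionVars false
set_option maxHeartbeats 400000

open Pointwise Cfsg Cfsg.Lib.Solv

namespace Cfsg.Lib.FT.PG

variable {G : Type*} [Group G] [Dl G] [Finite G]

/-- A maximal elementary abelian subgroup `A ≠ 1` satisfies Hypothesis 7.1. -/
theorem pmaxElem_normed_constrained (hG : Ctx G) {p : ℕ} (hp : p.Prime)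
    {A : Subgroup G} (h1 : A ≠ ⊥) (hA : A ∈ MaxElem p ⊤) (hnc : ¬ IsCyclic A)
    (hd : p ∈ dl G := by dlt) : NormedConstrained A :=
  plength_1_normed_constrained hG hp h1 hA (fun _ hM => mFT_proper_plength1 hG hp hM) hnc

/-- BG 10.10. -/
theorem max_normed_2Elem_signaliser (hG : Ctx G) {p q : ℕ} (hp : p.Prime)
    (hq : q.Prime) (hpq : p ≠ q) {A Q : Subgroup G} (hA : A ∈ Elem p 2 ⊤) (hAm : A ∈ MaxElem p ⊤)
    (hQ : Q ∈ maxInvSubgroups ⊤ A {q}) (hqC : q ∣ Nat.card (𝐂 A)) (hd : p ∈ dl G := by dlt) :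
    ∃ P, IsSylowOf p P ⊤ ∧ A ≤ P ∧ piCoreOf {p}ᶜ (𝐂 P) ⊔ (𝐍 P ⊓ 𝐍 Q) = 𝐍 P ∧
      P ≤ ⁅𝐍 Q, 𝐍 Q⁆ ∧ (IsNarrow q Q → P ≤ 𝐂 Q) := by
  haveI := Fact.mk hp
  haveI := Fact.mk hq
  have hA1 : A ≠ ⊥ := nt_pnElem hA (by omega)
  have hAp := pnElem_pgroup hA
  have hnc := pmaxElem_normed_constrained hG hp hA1 hAm (pnElem_not_cyclic hA le_rfl)
  have hqd : q ∈ dl G := cent_dg hG hA1 hnc.ne_top q hq hqC
  have hπ : piOf (Nat.card A) = {p} := X10.piOf_card_pgroup hp hAp hA1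
  have hqA : ¬ q ∣ Nat.card A := fun h => hpq (eq_of_pgroup_of_dvd hAp hq h).symm
  have htr := normed_constrained_rank2_trans hG hnc hq hqA hqC (by
    rw [centerOf, inf_eq_left.2 (abelian_le_cent (pnElem_abelian hA)), rank_pnElem hA])
  have sup : ∀ P, IsSylowOf p P ⊤ → A ≤ P → _ := fun P hP hAP =>
    normed_trans_superset hG hnc hq hqA (X10.nil_subnormal (pgroup_nil (Sylow_pgroup hP)) hAP)
      (hπ.symm ▸ pHall_pgroup hP) htr
  obtain ⟨P, hP, hAP, hQP⟩ : ∃ P, IsSylowOf p P ⊤ ∧ A ≤ P ∧ Q ∈ maxInvSubgroups ⊤ P {q} := by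
    obtain ⟨P, hP, hAP⟩ := Sylow_superset (le_top (a := A)) hAp
    obtain ⟨Q₀, hQ₀⟩ := max_normed_nonempty P {q}
    obtain ⟨k, hk, rfl⟩ := htr Q₀ ((sup P hP hAP).2.2.1 hQ₀) Q hQ
    refine ⟨k •ᶜ P, (pHallJ (Subgroup.mem_top k)).2 hP, ?_, max_normedJ k hQ₀⟩
    rw [← normP.1 (cent_sub A (pcore_sub _ _ hk))]
    exact (conjSg k).2 hAP
  obtain ⟨h1, -, -, h4⟩ := sup P hP hAP
  obtain ⟨h5, h6⟩ := h4 Q hQP
  rw [inf_eq_left.2 (mFT_Sylow_der1 hG hp hP)] at h5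
  rw [h1, hπ] at h6
  have hQd : DG Q := dg_of_pi (mem_max_normed hQ).1 hqd
  refine ⟨P, hP, hAP, h6.symm, h5, fun hn => ?_⟩
  by_cases hQ1 : Q = ⊥
  · rw [hQ1, cent_bot]
    exact le_top
  exact der1_p'group_cent_narrow hq
    (pgroup_iff.1 (mem_max_normed hQ).1) (hQd.odd hG) hn le_rfl (mFT_odd hG _ (loc_norm hQ1 hQd)) h5
    ((p'group_iff_coprime hq).1 (pgroup_p'group_of_ne (Sylow_pgroup hP) hpq))

/-- a `σ(M)'`-subgroup of `M` has rank at most 2 -/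
theorem sigma'_rank_le (hG : Ctx G) {M K : Subgroup G} (hM : Mx M)
    (hKM : K ≤ M) (hK : IsPiSubgroup (sigma M)ᶜ K) : rank K ≤ 2 :=
  alpha'_rank_le hKM (sub_pgroup (Set.compl_subset_compl.2 (alpha_sub_sigma hG hM)) hK)

/-- BG 10.11(a). -/
theorem sigma'_not_uniq (hG : Ctx G) {M K : Subgroup G} (hM : Mx M)
    (hKM : K ≤ M) (hK : IsPiSubgroup (sigma M)ᶜ K) (hKd : DG K) : ¬ InUniqueMaximal K := by
  intro hU
  obtain ⟨E, hE, hKE⟩ := Hall_superset (π := (sigma M)ᶜ ∩ dl G) (mmax_sol hG hM) hKM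
    fun r hr h => ⟨hK r hr h, hKd r hr h⟩
  obtain ⟨q, hq, hd, hmax⟩ := X10.exists_max_prime
    (cardG_gt1.2 (subG1_contra hKE (uniq_mmax_neq1 hG hU)))
  haveI := Fact.mk hq
  have hS := rank2_max_pcore_Sylow (mFT_odd hG E) (sub_mmax_sol hG hM hE.1)
    ((rankS (Fitting_sub E)).trans (sigma'_rank_le hG hM hE.1
      (sub_pgroup Set.inter_subset_left (pHall_pgroup hE)))) hmax
  obtain ⟨hσ, hqd⟩ := pHall_pgroup hE q hq hd
  exact sigma'_Sylow_contra hM.1 hq hσ (subHall_Sylow hE ⟨hσ, hqd⟩ hS)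
    (sub_uniq_mmax (def_uniq_mmax hU hM hKM) (hKE.trans (pcore_normal _ E).norm)
      (mFT_norm_pgroup_proper hG (Sylow_pgroup hS) (Sylow_ne_bot hS hd)))

/-- BG 10.11(b). -/
theorem sub'cent_sigma_rank1 (hG : Ctx G) {M K : Subgroup G} (hM : Mx M)
    (hKM : K ≤ M) (hK : IsPiSubgroup (sigma M)ᶜ K) : rank (K ⊓ 𝐂 (sigmaCore M)) ≤ 1 := by
  by_contra hr
  obtain ⟨p, hp, A, hA⟩ := (rank_geP (n := 2)).1 (not_le.1 hr)
  haveI := Fact.mk hp
  have hAK : A ≤ K := hA.1.trans inf_le_left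
  have hAM : A ≤ M := hAK.trans hKM
  have hAC : sigmaCore M ≤ 𝐂 A := centsC.1 (hA.1.trans inf_le_right)
  have hσ : p ∉ sigma M := pnElem_mem_pi (pnElem_of_le hA hAK) (by omega) hK
  have hAm := sigma'_rank2_max hG hM hp hσ (pnElem_of_le hA hAM)
  have hpd : p ∈ dl G := dl_of_elem hG hp (n := 0) (pnElem_of_le hA hAM) hM.1
  have hAd : DG A := dg_of_elem hA hp hpd
  have hr2 : rank M ≤ 2 := by
    refine rank_le_iff'.2 fun r hr => not_lt.1 fun h => ?_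
    haveI := Fact.mk hr
    have hα : r ∈ alpha M := mem_alpha_iff.2 ⟨hr, h⟩
    refine sigma'_not_uniq hG hM hAM (pgroupS hAK hK) hAd (cent_rank3_Uniqueness hG
      (rank_pnElem hA).ge (le_trans ?_ (rankS hAC)))
    refine le_trans ?_ (p_rank_le_rank r _)
    rw [p_rank_Hall (Msigma_Hall hG hM) (alpha_sub_sigma hG hM hα)]
    exact h
  have hnil := rank2_der1_nil (mFT_odd hG M) (mmax_sol hG hM) ((rankS (Fitting_sub M)).trans hr2)
  obtain ⟨q, hq, hd⟩ := exists_prime_dvd_card (Msigma_neq1 hG hM)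
  haveI := Fact.mk hq
  have hqσ : q ∈ sigma M := Msigma_pgroup M q hq hd
  obtain ⟨Q, hQ⟩ := Sylow_exists q (sigmaCore M)
  have hQN : 𝐍 Q = M := mmax_normal hG hM ⟨hQ.1.trans (Msigma_normal M).le,
    (Msigma_normal M).norm.trans (nilpotent_Hall_norm (nilpotentS (Msigma_der1 hG hM) hnil) hQ)⟩
    (Sylow_ne_bot hQ hd)
  have hQG : IsSylowOf q Q ⊤ := subHall_Sylow (Msigma_Hall_G hG hM) hqσ hQ
  obtain ⟨P, hP, hAP, -, hPd, -⟩ := max_normed_2Elem_signaliser hG hp hq (fun e => hσ (e ▸ hqσ))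
    (pnElem_of_le hA le_top) hAm (Q := Q) (mem_maxInvSubgroups_top.2 ⟨pHall_pgroup hQ,
      hAM.trans hQN.ge, fun R hR _ h => sub_pHall hQG hR h le_top⟩) (hd.trans (cardSg hAC))
  rw [hQN] at hPd
  have hPM : P ≤ M := hPd.trans (der_sub M)
  refine sigma'_Sylow_contra hM.1 hp hσ (pHall_subl hPM le_top hP) (mmax_normal hG hM ⟨hPM,
    (der_normal M).norm.trans (nilpotent_Hall_norm hnil (pHall_subl hPd le_top hP))⟩
    (subG1_contra hAP (nt_pnElem hA (by omega)))).le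

/-- `O_{σ'}(F(M))` is cyclic. -/
theorem sigma'core_Fitting_cyclic (hG : Ctx G) {M : Subgroup G}
    (hM : Mx M) : IsCyclic (piCoreOf (sigma M)ᶜ (fittingOf M)) := by
  refine (odd_nil_rank1_cyclic (mFT_odd hG _) (nilpotentS (pcore_sub _ _) (Fitting_nil M))).2
    (le_trans (rankS (le_inf le_rfl ?_)) (sub'cent_sigma_rank1 hG hM
      ((pcore_sub _ _).trans (Fitting_sub M)) (pcore_pgroup _ _)))
  exact (pcore_Fitting_le _ M).trans (p'core_cent_pcore _ M)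

/-- BG 10.11(c). -/
theorem sub'cent_sigma_cyclic (hG : Ctx G) {M K : Subgroup G} (hM : Mx M)
    (hKM : K ≤ M) (hK : IsPiSubgroup (sigma M)ᶜ K) :
    IsCyclic ↥(K ⊓ 𝐂 (sigmaCore M) ⊓ ⁅M, M⁆) ∧ K ⊓ 𝐂 (sigmaCore M) ⊓ ⁅M, M⁆ ⊲ M := by
  have hZ := sigma'core_Fitting_cyclic hG hM
  have hZn : piCoreOf (sigma M)ᶜ (fittingOf M) ⊲ M := pcore_normal_trans _ (Fitting_normal M)
  have hYK : K ⊓ 𝐂 (sigmaCore M) ⊓ ⁅M, M⁆ ≤ K := inf_le_left.trans inf_le_left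
  have hYF : K ⊓ 𝐂 (sigmaCore M) ⊓ ⁅M, M⁆ ≤ fittingOf M := by
    refine le_trans (le_inf (hYK.trans hKM) ?_) (cent_sub_Fitting (mmax_sol hG hM))
    rw [(nilpotent_pcoreC (sigma M) (Fitting_nil M)).cprod.cent_eq]
    exact le_inf (inf_le_left.trans (inf_le_right.trans (centS (pcore_Fitting_le _ M))))
      (inf_le_right.trans ((dergS hZn.norm).trans (Metacyclic.der_norm_cent_cyclic hZ)))
  have hYZ := nilpotent_sub_pcore (Fitting_nil M) hYF (pgroupS hYK hK)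
  exact ⟨cyclicS hYZ hZ, normal_sub_cyclic hZ hYZ hZn⟩

/-- BG 10.11(d). -/
theorem commG_sigma'_1Elem_cyclic (hG : Ctx G) {M K P : Subgroup G}
    (hM : Mx M) (hKM : K ≤ M) (hK : IsPiSubgroup (sigma M)ᶜ K) {p : ℕ} (hp : p.Prime)
    (hσ : p ∉ sigma M) (hP : P ∈ Elem p 1 (M ⊓ 𝐍 K)) (hCP : sigmaCore M ⊓ 𝐂 P = ⊥)
    (hKp : IsPiSubgroup {p}ᶜ K) (hab : IsMulCommutative K) :
    ⁅K, P⁆ ≤ 𝐂 (sigmaCore M) ∧ IsCyclic ↥⁅K, P⁆ ∧ ⁅K, P⁆ ⊲ M := by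
  haveI := Fact.mk hp
  have hPM : P ≤ M := hP.1.trans inf_le_left
  have hPK : P ≤ 𝐍 K := hP.1.trans inf_le_right
  have h0 : ⁅K, P⁆ ≤ K := commg_subl.2 hPK
  have hc := pnat_coprime (Msigma_pgroup M) (pgroupS h0 hK)
  have hsd := SDProd.of_eq_sup ((h0.trans hKM).trans (Msigma_normal M).norm) (coprime_TIg hc)
  have hPσ := hPM.trans (Msigma_normal M).norm
  have hnil := prime_Frobenius_sol_kernel_nil (normsY hPσ (commg_normr K P))
    (sub_mmax_sol hG hM (sup_le (Msigma_normal M).le (h0.trans hKM))) (p1Elem_prime hP)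
    (X10.sdprod_cent_eq_bot hsd hPσ (commg_normr K P) hCP (coprime_abel_cent_TI hPK
      (pgroup_coprime_p'group (pnElem_pgroup hP) hKp).symm hab))
  have hC : ⁅K, P⁆ ≤ 𝐂 (sigmaCore M) := sub_nilpotent_cent2 hnil le_sup_left le_sup_right hc
  have hY : ⁅K, P⁆ ≤ K ⊓ 𝐂 (sigmaCore M) ⊓ ⁅M, M⁆ := le_inf (le_inf h0 hC) (commgSS hKM hPM)
  obtain ⟨h1, h2⟩ := sub'cent_sigma_cyclic hG hM hKM hK
  exact ⟨hC, cyclicS hY h1, normal_sub_cyclic h1 hY h2⟩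

/-- BG 10.12. -/
theorem sigma_disjoint (hG : Ctx G) {M H : Subgroup G} (hM : Mx M)
    (hH : Mx H) (hHM : ¬ ConjIn ⊤ M H) :
    alphaCore M ⊓ sigmaCore H = ⊥ ∧ Disjoint (alpha M) (sigma H) ∧
      (Group.IsNilpotent (sigmaCore M) →
        sigmaCore M ⊓ sigmaCore H = ⊥ ∧ Disjoint (sigma M) (sigma H)) := by
  have key : ∀ p ∈ sigma M, p ∈ sigma H → p ∉ alpha M ∧ ¬ Group.IsNilpotent (sigmaCore M) := by
    intro p h1 h2
    haveI := Fact.mk h1.1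
    obtain ⟨S, hS⟩ := Sylow_exists p (sigmaCore M)
    have hSM : IsSylowOf p S M := subHall_Sylow (Msigma_Hall hG hM) h1 hS
    obtain ⟨R, hR⟩ := Sylow_exists p H
    obtain ⟨g, -, rfl⟩ := Sylow_trans (sigma_Sylow_G h2 hR) (sigma_Sylow_G h1 hSM)
    have hN : 𝐍 (g •ᶜ R) ≤ g •ᶜ H := by
      rw [normJ, conjSg]
      exact norm_sigma_Sylow h2 hR
    have hne : g •ᶜ H ≠ M := fun e => hHM (ConjIn.symm ⟨g, trivial, e.symm⟩)
    refine ⟨fun hα => hne (uniq_mmax_eq (rank3_Uniqueness hG (sub_mmax_proper hM hSM.1) ?_) hM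
      hSM.1 ((mmaxJ g).2 hH) ((normG _).trans hN)), fun hn => hne (eq_mmax hM ((mmaxJ g).2 hH)
        ((Msigma_normal M).norm.trans ((nilpotent_Hall_norm hn hS).trans hN))).symm⟩
    rw [rank_Sylow hSM]
    exact (mem_alpha_iff.1 hα).2
  have d1 : Disjoint (alpha M) (sigma H) :=
    Set.disjoint_left.2 fun p h1 h2 => (key p (alpha_sub_sigma hG hM h1) h2).1 h1
  refine ⟨coprime_TIg (pgroup_coprime_of_disjoint (Malpha_pgroup M) (Msigma_pgroup H) d1), d1,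
    fun hn => ?_⟩
  have d2 : Disjoint (sigma M) (sigma H) := Set.disjoint_left.2 fun p h1 h2 => (key p h1 h2).2 hn
  exact ⟨coprime_TIg (pgroup_coprime_of_disjoint (Msigma_pgroup M) (Msigma_pgroup H) d2), d2⟩

/-- BG 10.14(b). -/
theorem beta_noncyclic_uniq (hG : Ctx G) {p : ℕ} (hp : IsIdealPrime p G)
    {R : Subgroup G} (hR : IsPGroup p R) (hr : 1 < rank R) (hd : p ∈ dl G := by dlt) :
    InUniqueMaximal R := by
  haveI := Fact.mk hp.1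
  rw [rank_pgroup hR] at hr
  obtain ⟨A, hA⟩ := (p_rank_geP (n := 2)).1 hr
  exact uniq_mmaxS hA.1 (mFT_pgroup_proper hG hR) (nonmaxElem2_Uniqueness hG hp.1
    (pnElem_of_le hA le_top) ((beta_not_narrow hp).1 A (pnElem_of_le hA le_top)))

/-- BG 10.14(c). -/
theorem beta_subnorm_uniq (hG : Ctx G) {p : ℕ} (hp : IsIdealPrime p G)
    {P X : Subgroup G} (hP : IsSylowOf p P ⊤) (hX : X ≤ P) (hd : p ∈ dl G := by dlt) :
    InUniqueMaximal (P ⊓ 𝐍 X) := by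
  haveI := Fact.mk hp.1
  have hPp := Sylow_pgroup hP
  have hQ : IsPGroup p ↥(P ⊓ 𝐍 X) := isPGroupS inf_le_left hPp
  refine beta_noncyclic_uniq hG hp hQ (not_le.1 fun hr => ?_)
  rw [rank_pgroup hQ] at hr
  have hc := (odd_pgroup_rank1_cyclic hQ ((dg_of_pgroup hQ hd).odd hG)).2 hr
  have e := nilpotent_sub_norm (pgroup_nil hPp) (inf_le_left : P ⊓ 𝐍 X ≤ P)
    (inf_le_inf_left P (sub_cyclic_char hc (le_inf hX (normG X))))
  have := (isIdealPrime_iff.1 hp).2.1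
  rw [← p_rank_Sylow hP, ← e] at this
  omega

/-- BG 10.14(d). -/
theorem beta_norm_sub_mmax (hG : Ctx G) {M Y : Subgroup G} (hM : Mx M)
    (hYM : Y ≤ M) (hY : IsPiSubgroup (beta M) Y) (hY1 : Y ≠ ⊥) : 𝐍 Y ≤ M := by
  obtain ⟨q, hq, hd⟩ := exists_prime_dvd_card
    (fun h => hY1 ((trivg_Fitting (sub_mmax_sol hG hM hYM)).1 h))
  haveI := Fact.mk hq
  have hβ : q ∈ beta M := hY q hq (hd.trans (cardSg (Fitting_sub Y)))
  have hqd : q ∈ dl G := alpha_dl hG hM.1 hβ.1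
  have hX1 : piCoreOf {q} Y ≠ ⊥ := by
    rw [← p_core_Fitting]
    exact Sylow_ne_bot (nilpotent_pcore_Hall {q} (Fitting_nil Y)) hd
  obtain ⟨P, hP, hXP⟩ := Sylow_superset ((pcore_sub {q} Y).trans hYM) (pcore_isPGroup q Y)
  exact (norm_pcore {q} Y).trans (sub_uniq_mmax (def_uniq_mmax (beta_subnorm_uniq hG hβ.2
    (sigma_Sylow_G (beta_sub_sigma hG hM hβ) hP) hXP) hM (inf_le_left.trans hP.1)) inf_le_right
    (mFT_norm_pgroup_proper hG (pcore_isPGroup q Y) hX1))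

end Cfsg.Lib.FT.PG
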