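import Cfsg.Agent.PG.BG10.T6

/-!
Bender-Glauberman, section 10: Lemma 10.13.
-/

set_option autoImplicit false
set_option linter.unusedSectionVars false
set_option maxHeartbeats 400000

open Pointwise Cfsg Cfsg.Lib.Solv

namespace Cfsg.Lib.FT.PG

variable {G : Type*} [Group G] [Dl G] [Finite G]

/-- The centralizer of `A` in a nonabelian Sylow subgroup. -/
theorem X10.cent_p2maxElem_Sylow (hG : Ctx G) {p : ℕ} (hp : p.Prime)
    {A S : Subgroup G} (hA : A ∈ Elem p 2 S) (hAm : A ∈ MaxElem p S) (hS : IsSylowOf p S ⊤)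
    (hab : ¬ IsMulCommutative S) (hd : p ∈ dl G := by dlt) :
    ∃ Y : Subgroup G, IsCyclic Y ∧ omegaOne p (centerOf S) ≤ Y ∧ Y ⊔ A = S ⊓ 𝐂 A := by
  haveI := Fact.mk hp
  have hSp := Sylow_pgroup hS
  have hSL : Loc S := mFT_pgroup_proper hG hSp
  have hAC : A ≤ S ⊓ 𝐂 A := le_inf hA.1 (abelian_le_cent (pnElem_abelian hA))
  by_cases hr : pRank p S ≤ 2
  · obtain ⟨R, C, -, -, hexp, hcp, hC, h1, h2, -, hR, -⟩ :=
      mFT_rank2_Sylow_cprod' hG hp hS (by rwa [X10.rank_pgroup hp hSp]) hab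
    have hAR : A ≤ R := hR ▸ abelem_le_Ohm1 hA.2.1 hA.1
    have hCA : C ≤ 𝐂 A := hcp.cent.trans (centS hAR)
    refine ⟨C, hC, le_trans ?_ (Ohm_sub p C), ?_⟩
    · rw [h1, ← h2]
      exact le_inf (hR ▸ OhmS inf_le_left)
        ((Ohm_sub p _).trans (inf_le_right.trans (centS hcp.le_left)))
    · rw [← (hcp.modl hCA).sup, sup_comm]
      congr 1
      exact le_antisymm (le_inf hAR (hAC.trans inf_le_right)) fun x hx =>
        mem_of_pmaxElem hAm (hcp.le_left hx.1) hx.2 (hexp x hx.1)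
  · have hZ := (Ohm1_ucn_p2maxElem hp hSp (mFT_odd hG S) (not_le.1 hr) hA hAm).2.1
    have hZA : omegaOne p (centerOf S) ≤ A := Ohm1_center_le_pmaxElem hAm
    have hZ1 : omegaOne p (centerOf S) ∈ Elem p 1 A := p1ElemE.2 ⟨hZA, hZ⟩
    have hZC : omegaOne p (centerOf S) ≤ 𝐂 S := (Ohm_sub p _).trans inf_le_right
    obtain ⟨B, hB, hBZ⟩ := exists_p1Elem_ne hA.2.1 (pnElem_not_cyclic hA le_rfl) _
      (p1Elem_cyclic hZ1)
    have hd : DProd B (omegaOne p (centerOf S)) A :=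
      (p2Elem_dprodP hA hB hZ1).2 fun e => hBZ e.le
    have e : S ⊓ 𝐂 B = S ⊓ 𝐂 A := by
      rw [hd.cprod.cent_eq, inf_comm (𝐂 B), ← inf_assoc, inf_eq_left.2 (centsC.1 hZC)]
    obtain ⟨h1, -, -, h2⟩ := narrow_cent_dprod hp hSp (mFT_odd hG S) (not_le.1 hr)
      (card_p1Elem_eq hB) (hB.1.trans hA.1) (by rw [e, p_rank_cent_pmaxElem hAm, p_rank_pnElem hA])
    have hZY : omegaOne p (centerOf S) ≤ S ⊓ 𝐂 (omegaOne p (ucn2 S)) ⊓ 𝐂 B :=
      le_inf (le_inf (hZA.trans hA.1) (hZC.trans (centS ((Ohm_sub p _).trans (ucn2_sub S)))))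
        (hZC.trans (centS (hB.1.trans hA.1)))
    refine ⟨_, h1, hZY, le_antisymm (sup_le (h2.le_right.trans e.le) hAC) ?_⟩
    rw [← e, ← h2.sup]
    exact sup_le (hB.1.trans le_sup_right) le_sup_left

/-- BG 10.13. -/
theorem basic_p2maxElem_structure (hG : Ctx G) {p : ℕ} (hp : p.Prime)
    {A P : Subgroup G} (hA : A ∈ Elem p 2 ⊤) (hAm : A ∈ MaxElem p ⊤) (hP : IsPGroup p P)
    (hAP : A ≤ P) (hab : ¬ IsMulCommutative P) (hd : p ∈ dl G := by dlt) :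
    omegaOne p (centerOf P) ∈ Elem p 1 A ∧
      (∃ Y : Subgroup G, IsCyclic Y ∧ omegaOne p (centerOf P) ≤ Y ∧
        ∀ A₀ ∈ Elem p 1 A, A₀ ≠ omegaOne p (centerOf P) → DProd A₀ Y (P ⊓ 𝐂 A)) ∧
      ∀ A₁ ∈ Elem p 1 A, A₁ ≠ omegaOne p (centerOf P) →
        ∀ A₂ ∈ Elem p 1 A, A₂ ≠ omegaOne p (centerOf P) → ∃ x ∈ P ⊓ 𝐍 A, A₂ = x •ᶜ A₁ := by
  haveI := Fact.mk hp
  obtain ⟨S, hS, hPS⟩ := Sylow_superset le_top hP
  have hSp := Sylow_pgroup hS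
  have hAS := hAP.trans hPS
  have hA1 : A ≠ ⊥ := nt_pnElem hA (by omega)
  have hAab := pnElem_abelian hA
  have hAmP : A ∈ MaxElem p P := pmaxElemS le_top hAm hAP
  obtain ⟨Y₁, hY₁, hZY₁, hC₁⟩ := X10.cent_p2maxElem_Sylow hG hp (pnElem_of_le hA hAS)
    (pmaxElemS le_top hAm hAS) hS fun h => hab (abelianS hPS h)
  have hY₁C : Y₁ ≤ 𝐂 A := le_sup_left.trans (hC₁.le.trans inf_le_right)
  have hC : Y₁ ⊓ P ⊔ A = P ⊓ 𝐂 A := by
    rw [← sup_inf_assoc_of_le_normalizer' (cents_norm (centsC.1 hY₁C)) hAP, hC₁, inf_right_comm,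
      inf_eq_right.2 hPS]
  have hY : IsCyclic ↥(Y₁ ⊓ P) := cyclicS inf_le_left hY₁
  have hYC : Y₁ ⊓ P ≤ 𝐂 A := inf_le_left.trans hY₁C
  have hCab : IsMulCommutative ↥(P ⊓ 𝐂 A) := hC ▸ abelianY (cyclic_abelian hY) hAab (centsC.1 hYC)
  have hClt : P ⊓ 𝐂 A < P := lt_of_le_of_ne inf_le_left fun e => hab (e ▸ hCab)
  set Z := omegaOne p (centerOf P) with hZdef
  have hZC : Z ≤ 𝐂 P := (Ohm_sub p _).trans inf_le_right
  have hZA : Z ≤ A := Ohm1_center_le_pmaxElem hAmP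
  have hZ : Z ∈ Elem p 1 A := by
    refine p1Elem_of_lt_p2Elem hA (lt_of_le_of_ne hZA fun e => hClt.not_ge (le_inf le_rfl ?_))
      (X10.omega_center_ne_bot hp hP (subG1_contra hAP hA1))
    rw [← e]
    exact centsC.1 hZC
  have hZY : Z ≤ Y₁ ⊓ P := by
    refine le_inf (le_trans ?_ hZY₁) (hZA.trans hAP)
    have h1 : omegaOne p (centerOf S) ≤ Z := abelem_le_Ohm1 (Ohm1_center_abelem p S)
      (le_inf ((Ohm1_center_le_pmaxElem (pmaxElemS le_top hAm hAS)).trans hAP)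
        ((Ohm_sub p _).trans (inf_le_right.trans (centS hPS))))
    refine prime_meetG (p1Elem_prime hZ) ?_
    rw [inf_eq_right.2 h1]
    exact X10.omega_center_ne_bot hp hSp (subG1_contra hAS hA1)
  refine ⟨hZ, ⟨_, hY, hZY, fun A₀ hA₀ hne => ⟨?_, hYC.trans (centS hA₀.1), ?_⟩⟩, ?_⟩
  · rw [← hC]
    refine le_antisymm (sup_le (hA₀.1.trans le_sup_right) le_sup_left) (sup_le le_sup_right ?_)
    rw [← ((p2Elem_dprodP hA hA₀ hZ).2 hne).sup]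
    exact sup_le_sup_left hZY _
  · refine prime_TIg (p1Elem_prime hA₀) fun h => hne ?_
    exact (eq_subG_cyclic hY h hZY).2 ((card_p1Elem_eq hA₀).trans (card_p1Elem_eq hZ).symm)
  · intro A₁ hA₁ hne₁ A₂ hA₂ hne₂
    have hsub : {B : Subgroup G | ∃ a ∈ P ⊓ 𝐍 A, B = a •ᶜ A₁} ⊆ Elem p 1 A \ {Z} := by
      rintro _ ⟨a, ha, rfl⟩
      refine ⟨(pnElemJnorm ha.2).2 hA₁, fun e => hne₁ ?_⟩
      rw [← conjsg_inj a, Set.mem_singleton_iff.1 e, normP.1 (cents_norm (centsC.1 hZC) ha.1)]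
    have hcard : (Elem p 1 A \ {Z}).ncard = p := by
      rw [Set.ncard_diff_singleton_of_mem hZ, ← Nat.card_coe_set_eq, card_p1Elem_p2Elem hA]
      rfl
    have hidx : p ≤ (𝐍 A₁).relIndex (P ⊓ 𝐍 A) := by
      obtain ⟨k, hk⟩ := pgroup_card_pow (isPGroupS (inf_le_left : P ⊓ 𝐍 A ≤ P) hP)
      have hd : (𝐍 A₁).relIndex (P ⊓ 𝐍 A) ∣ p ^ k :=
        hk ▸ Dvd.intro_left _ (card_inf_mul_relIndex _ _)
      obtain ⟨j, -, hj⟩ := (Nat.dvd_prime_pow hp).1 hd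
      rw [hj]
      refine Nat.le_self_pow ?_ p
      rintro rfl
      have hN : P ⊓ 𝐍 A ≤ 𝐍 A₁ := Subgroup.relIndex_eq_one.1 hj
      have h1 : P ⊓ 𝐍 A ≤ 𝐂 A := by
        rw [((p2Elem_dprodP hA hA₁ hZ).2 hne₁).cprod.cent_eq]
        exact le_inf (X10.pgroup_cent_of_norm_prime hp (isPGroupS inf_le_left hP)
          (card_p1Elem_eq hA₁) hN) (inf_le_left.trans (centsC.1 hZC))
      refine (nilpotent_proper_norm (pgroup_nil hP) hClt).not_ge (le_inf inf_le_left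
        (le_trans (inf_le_inf_left P ?_) h1))
      exact (norm_Ohm p _).trans (by rw [Ohm1_cent_max hAmP])
    have e := Set.eq_of_subset_of_ncard_le hsub (by rwa [hcard, ncard_conjugates])
    exact (e.ge : Elem p 1 A \ {Z} ⊆ _) ⟨hA₂, hne₂⟩

end Cfsg.Lib.FT.PG
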