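import Cfsg.Agent.PG.BG10.T1
import Cfsg.Agent.PG.BG10.NilMod

/-!
Bender-Glauberman, section 10: Theorem 10.2, Lemmas 10.3, 10.4, 10.5.
-/

set_option autoImplicit false
set_option linter.unusedSectionVars false
set_option maxHeartbeats 400000

open Pointwise Cfsg Cfsg.Lib.Solv

namespace Cfsg.Lib.FT.PG

variable {G : Type*} [Group G] [Dl G] [Finite G]

/-- For `p ∈ σ(M)` a Sylow `p`-subgroup of `M` lies in `M'`. -/
theorem sigma_Sylow_sub_der1 (hG : Ctx G) {M P : Subgroup G} (hM : Mx M)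
    {p : ℕ} (hp : p ∈ sigma M) (hP : IsSylowOf p P M) : P ≤ ⁅M, M⁆ := by
  have h1 := focal_subgroup_gen hp.1 (sigma_Sylow_G hp hP)
  have h2 := focal_subgroup_gen hp.1 hP
  rw [mFT_der_top hG, inf_top_eq] at h1
  refine le_trans ?_ (inf_le_right (a := P))
  rw [h2]
  refine h1.le.trans (Subgroup.closure_mono ?_)
  rintro _ ⟨x, hx, u, -, hu, rfl⟩
  have hX : Subgroup.zpowers x ≤ P := (Subgroup.zpowers_le).2 hx
  obtain ⟨m, hm, c, hc, rfl⟩ := (sigma_group_trans hG hM hp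
    (isPGroupS hX (X10.syl_pgroup hp.1 hP))).1 u (hX.trans hP.1)
    (by rw [conj_smul_zpowers]; exact (Subgroup.zpowers_le).2 (hP.1 hu))
  have hcx : x * c = c * x := mem_cent.1 hc x (Subgroup.mem_zpowers x)
  have e : m * c * x * (m * c)⁻¹ = m * x * m⁻¹ := by
    rw [mul_assoc m c x, ← hcx]
    group
  rw [e] at hu ⊢
  exact ⟨x, hx, m, hm, hu, rfl⟩

theorem X10.sigma_sub_der1 (hG : Ctx G) {M K : Subgroup G} (hM : Mx M)
    (hK : K ≤ M) (h : IsPiSubgroup (sigma M) K) : K ≤ ⁅M, M⁆ := by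
  refine le_of_forall_Sylow_le fun r hr hd => ?_
  obtain ⟨R, hR⟩ := Sylow_exists r K
  obtain ⟨P, hP, hRP⟩ := Sylow_superset (hR.1.trans hK) (Sylow_pgroup hR)
  exact ⟨R, hR, hRP.trans (sigma_Sylow_sub_der1 hG hM (h r hr.out hd) hP)⟩

/-- BG 10.2(d2). -/
theorem Malpha_quo_nil (hG : Ctx G) {M : Subgroup G} (hM : Mx M) :
    NilMod ⁅M, M⁆ (alphaCore M) := by
  haveI : ((piCoreOf (alpha M) M).subgroupOf M).Normal := (pcore_normal _ M).subgroupOf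
  rw [alphaCore_def, ← nilpotent_img_qmk_iff (L := M) (der_sub M), img_commutator le_rfl le_rfl]
  refine rank2_der1_nil (odd_img _ (mFT_odd hG M)) (solvable_img _ (mmax_sol hG hM))
    (X10.rank_fitting_quo_le _ M fun r hr h => ?_)
  exact not_lt.1 fun h' => h (mem_alpha_iff.2 ⟨hr, h'⟩)

theorem X10.core_hall (hG : Ctx G) {M : Subgroup G} (hM : Mx M)
    {π : Set ℕ} (h1 : alpha M ⊆ π) (h2 : π ⊆ sigma M) : IsPiHallOf π (piCoreOf π M) M := by
  obtain ⟨K, hK⟩ := Hall_exists π (mmax_sol hG hM)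
  have hKd : K ≤ ⁅M, M⁆ := X10.sigma_sub_der1 hG hM hK.1 (sub_pgroup h2 (pHall_pgroup hK))
  have hn := X10.norm_sup_hall_of_nilMod (Malpha_normal M) (der_sub M) (der_normal M).norm
    (Malpha_quo_nil hG hM) (pHall_subl hKd (der_sub M) hK)
  have hle : alphaCore M ≤ K :=
    normal_sub_Hall hK (sub_pgroup h1 (Malpha_pgroup M)) (Malpha_normal M)
  rw [sup_eq_right.2 hle] at hn
  rw [normal_Hall_pcore hK hn]
  exact hK

/-- BG 10.2(a1). -/
theorem Malpha_Hall (hG : Ctx G) {M : Subgroup G} (hM : Mx M) :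
    IsPiHallOf (alpha M) (alphaCore M) M :=
  X10.core_hall hG hM subset_rfl (alpha_sub_sigma hG hM)

/-- BG 10.2(b1). -/
theorem Msigma_Hall (hG : Ctx G) {M : Subgroup G} (hM : Mx M) :
    IsPiHallOf (sigma M) (sigmaCore M) M :=
  X10.core_hall hG hM (alpha_sub_sigma hG hM) subset_rfl

theorem pi_Msigma (hG : Ctx G) {M : Subgroup G} (hM : Mx M) :
    piOf (Nat.card (sigmaCore M)) = sigma M := by
  ext p
  exact ⟨fun h => Msigma_pgroup M p h.1 h.2,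
    fun h => ⟨h.1, mem_pi_of_Hall_dvd (Msigma_Hall hG hM) h.1 h h.2.1⟩⟩

/-- BG 10.2(b2). -/
theorem Msigma_Hall_G (hG : Ctx G) {M : Subgroup G} (hM : Mx M) :
    IsPiHallOf (sigma M) (sigmaCore M) ⊤ :=
  X10.hall_G_of_sub_sigma subset_rfl (Msigma_Hall hG hM)

/-- a `σ(M)`-subgroup of `M` lies in `M_σ` -/
theorem sub_Msigma (hG : Ctx G) {M X : Subgroup G} (hM : Mx M)
    (hXM : X ≤ M) (hX : IsPiSubgroup (sigma M) X) : X ≤ sigmaCore M :=
  (sub_normal_Hall (Msigma_Hall hG hM) (Msigma_normal M).norm hXM).2 hX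

/-- BG 10.2(c). -/
theorem Msigma_der1 (hG : Ctx G) {M : Subgroup G} (hM : Mx M) :
    sigmaCore M ≤ ⁅M, M⁆ := X10.sigma_sub_der1 hG hM (Msigma_normal M).le (Msigma_pgroup M)

theorem Malpha_der1 (hG : Ctx G) {M : Subgroup G} (hM : Mx M) :
    alphaCore M ≤ ⁅M, M⁆ := (Malpha_sub_Msigma hG hM).trans (Msigma_der1 hG hM)

/-- BG 10.2(e). -/
theorem Msigma_neq1 (hG : Ctx G) {M : Subgroup G} (hM : Mx M) :
    sigmaCore M ≠ ⊥ := by
  intro h
  have hσ := (Hall_eq_bot_iff (Msigma_Hall hG hM)).1 h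
  have hr : rank M ≤ 2 := alpha'_rank_le le_rfl
    (sub_pgroup (Set.compl_subset_compl.2 (alpha_sub_sigma hG hM)) hσ)
  obtain ⟨q, hq, hd, hmax⟩ := X10.exists_max_prime (cardG_gt1.2 (mmax_neq1 hG hM))
  have hS := rank2_max_pcore_Sylow (mFT_odd hG M) (mmax_sol hG hM)
    ((rankS (Fitting_sub M)).trans hr) hmax
  have h1 : piCoreOf {q} M ≠ ⊥ := fun e => (X10.syl_eq_bot_iff hq hS).1 e hd
  exact hσ q hq hd (mem_sigma_of_Sylow hM.1 hq hS (mmax_normal hG hM (pcore_normal _ M) h1).le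
    (dl_of_pcore hG hM hq h1))

/-- BG 10.3. -/
theorem cent_alpha'_uniq (hG : Ctx G) {M X : Subgroup G} (hM : Mx M)
    (hXM : X ≤ M) (hX : IsPiSubgroup (alpha M)ᶜ X) (hr : 2 ≤ rank (alphaCore M ⊓ 𝐂 X)) :
    InUniqueMaximal (M ⊓ 𝐂 X) := by
  obtain ⟨p, hp, B, hB⟩ := rank_geP.1 hr
  haveI := Fact.mk hp
  have hne : Loc (M ⊓ 𝐂 X) := sub_mmax_proper hM inf_le_left
  have hd : p ∈ dl G := dl_of_elem hG hp (n := 0) hB (by loc)
  have hBα : B ≤ alphaCore M := hB.1.trans inf_le_left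
  have hBX : B ≤ 𝐂 X := hB.1.trans inf_le_right
  by_cases hm : B ∈ MaxElem p ⊤
  swap
  · exact uniq_mmaxS (le_inf (hBα.trans (Malpha_normal M).le) hBX) hne
      (nonmaxElem2_Uniqueness hG hp (pnElem_of_le hB le_top) hm)
  have hα : p ∈ alpha M := pnElem_mem_pi (pnElem_of_le hB hBα) (by omega) (Malpha_pgroup M)
  have hc := pnat_coprime (Malpha_pgroup M) hX
  obtain ⟨P, hP, hXP, hBP⟩ := coprime_Hall_subset (π := {p}) (hXM.trans (Malpha_normal M).norm) hc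
    (sub_mmax_sol hG hM (Malpha_normal M).le) hBα (pgroup_iff.2 (pnElem_pgroup hB))
    (cents_norm (centsC.1 hBX))
  have hXC : X ≤ 𝐂 P := by
    refine coprime_odd_faithful_cent_abelem hp hBP hB.2.1 (pHall_pgroup hP) hXP
      (coprimeSg hP.1 hc) (mFT_odd hG P (hM.sub (hP.1.trans (Malpha_le M)))) fun x hx hxp => ?_
    exact le_cent1_iff.2 (hBX (mem_of_pmaxElem hm trivial hx.2 hxp))
  refine rank3_Uniqueness hG hne (le_trans ?_
    (rankS (le_inf (hP.1.trans (Malpha_normal M).le) (centsC.1 hXC))))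
  rw [rank_Sylow hP, p_rank_Hall (Malpha_Hall hG hM) hα]
  exact (mem_alpha_iff.1 hα).2

/-- BG 10.4(a). -/
theorem der1_quo_sigma' (hG : Ctx G) {M : Subgroup G} (hM : Mx M) {p : ℕ}
    (h : p ∣ (⁅M, M⁆ : Subgroup G).relIndex M) : p ∉ sigma M := fun hp =>
  (Msigma_Hall hG hM).2.2 p hp.1 hp
    (h.trans (Subgroup.relIndex_dvd_of_le_left M (Msigma_der1 hG hM)))

/-- BG 10.4(b). -/
theorem cent1_sigma'_Zgroup (hG : Ctx G) {M P : Subgroup G} (hM : Mx M)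
    {p : ℕ} (hp : p.Prime) (hσ : p ∉ sigma M) (hP : IsSylowOf p P M) (hP1 : P ≠ ⊥)
    (hd : p ∈ dl G := by dlt) :
    ∃ x ∈ centerOf P, orderOf x = p ∧ ¬ UniqMax (𝐂₁ x) M ∧
      IsZGroup ↥(alphaCore M ⊓ 𝐂₁ x) := by
  haveI := Fact.mk hp
  have hPp := Sylow_pgroup hP
  obtain ⟨x, hx, ho, hu⟩ : ∃ x ∈ centerOf P, orderOf x = p ∧ ¬ UniqMax (𝐂₁ x) M := by
    by_contra hn
    push Not at hn
    refine sigma'_Sylow_contra hM.1 hp hσ hP fun u hu => ?_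
    obtain ⟨y, hy, hyo⟩ := Cauchy hp (pgroup_dvd_card (isPGroupS inf_le_left hPp)
      (X10.center_ne_bot hp hPp hP1))
    have h1 := hn (u * y * u⁻¹) ((memJ_norm (norms_center le_rfl hu)).2 hy) (by rwa [orderJ])
    have h2 := def_uniq_mmaxJ u (hn y hy hyo)
    rw [← cent1J] at h2
    exact (mmax_conj_eq_iff hG hM).1 (h1.unique h2)
  refine ⟨x, hx, ho, hu, (odd_rank1_Zgroup (mFT_odd hG _)).2 (not_lt.1 fun hr => hu ?_)⟩
  have hx1 : x ≠ 1 := by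
    rintro rfl
    exact hp.one_lt.ne (orderOf_one.symm.trans ho)
  have hXP : Subgroup.zpowers x ≤ P := Subgroup.zpowers_le.2 hx.1
  have hU := cent_alpha'_uniq hG hM (hXP.trans hP.1) (pi_pgroup (isPGroupS hXP hPp)
    fun h => hσ (alpha_sub_sigma hG hM h)) (by rwa [cent_zpowers])
  rw [cent_zpowers] at hU
  exact def_uniq_mmaxS inf_le_right (mFT_cent1_proper hG hx1 (delt_of_order ho hp hd))
    (def_uniq_mmax hU hM inf_le_left)

/-- BG 10.4(b), for a prime that may lie outside `Δ`. -/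
theorem cent1_sigma'_Zgroup' (hG : Ctx G) {M P : Subgroup G} (hM : Mx M)
    {p : ℕ} (hp : p.Prime) (hσ : p ∉ sigma M) (hP : IsSylowOf p P M) (hP1 : P ≠ ⊥) :
    ∃ x ∈ centerOf P, orderOf x = p ∧ IsZGroup ↥(alphaCore M ⊓ 𝐂₁ x) := by
  by_cases hd : p ∈ dl G
  · obtain ⟨x, h1, h2, -, h3⟩ := cent1_sigma'_Zgroup hG hM hp hσ hP hP1
    exact ⟨x, h1, h2, h3⟩
  haveI := Fact.mk hp
  have hPp := Sylow_pgroup hP
  obtain ⟨y, hy, hyo⟩ := Cauchy hp (pgroup_dvd_card (isPGroupS inf_le_left hPp)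
    (X10.center_ne_bot hp hPp hP1))
  refine ⟨y, hy, hyo, ?_⟩
  rw [inf_cent1_eq_bot hG (Malpha_dg hG hM.1) hp hyo hd]
  infer_instance
/-- BG 10.4(c), part 1. -/
theorem sigma'_rank2_max (hG : Ctx G) {M : Subgroup G} (hM : Mx M)
    {p : ℕ} (hp : p.Prime) (hσ : p ∉ sigma M) : Elem p 2 M ⊆ MaxElem p ⊤ := by
  intro A hA
  haveI := Fact.mk hp
  have hd : p ∈ dl G := dl_of_elem hG hp (n := 0) hA hM.1
  by_contra hm
  have hU := def_uniq_mmax (nonmaxElem2_Uniqueness hG hp (pnElem_of_le hA le_top) hm) hM hA.1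
  obtain ⟨P, hP, hAP⟩ := Sylow_superset hA.1 (pnElem_pgroup hA)
  obtain ⟨x, hx, ho, hu, -⟩ := cent1_sigma'_Zgroup hG hM hp hσ hP
    (subG1_contra hAP (nt_pnElem hA (by omega)))
  have hx1 : x ≠ 1 := by
    rintro rfl
    exact hp.one_lt.ne (orderOf_one.symm.trans ho)
  exact hu (def_uniq_mmaxS (hAP.trans (le_cent1_iff.2 hx.2))
    (mFT_cent1_proper hG hx1 (delt_of_order ho hp hd)) hU)

/-- BG 10.4(c), part 2. -/
theorem sigma'_rank2_beta' (hG : Ctx G) {M : Subgroup G} (hM : Mx M)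
    {p : ℕ} (hp : p.Prime) (hσ : p ∉ sigma M) (hr : pRank p M = 2) : ¬ IsIdealPrime p G := by
  intro h
  haveI := Fact.mk hp
  obtain ⟨A, hA⟩ := p_rank_geP.1 hr.ge
  exact (beta_not_narrow h).1 A (pnElem_of_le hA le_top) (sigma'_rank2_max hG hM hp hσ hA)

/-- BG 10.5, part 1. -/
theorem sigma'_norm_mmax_rank2 (hG : Ctx G) {M X : Subgroup G} (hM : Mx M)
    {p : ℕ} (hp : p.Prime) (hσ : p ∉ sigma M) (hX : IsPGroup p X) (hN : 𝐍 X ≤ M)
    (hd : p ∈ dl G := by dlt) : pRank p M = 2 := by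
  haveI := Fact.mk hp
  obtain ⟨P, hP, hXP⟩ := Sylow_superset ((normG X).trans hN) hX
  refine le_antisymm (not_lt.1 fun h => hσ (alpha_sub_sigma hG hM (mem_alpha_iff.2 ⟨hp, h⟩)))
    (not_lt.1 fun h => sigma'_Sylow_contra hM.1 hp hσ hP (le_trans (sub_cyclic_char ?_ hXP) hN))
  exact (odd_Sylow_cyclic_iff hP (mFT_odd hG M)).2 (by omega)

end Cfsg.Lib.FT.PG
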