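import Cfsg.Agent.PG.BG10.T2

/-!
Bender-Glauberman, section 10: Theorem 10.6, Corollary 10.7.
-/

set_option autoImplicit false
set_option linter.unusedSectionVars false
set_option maxHeartbeats 400000

open Pointwise Cfsg Cfsg.Lib.Solv

namespace Cfsg.Lib.FT.PG

variable {G : Type*} [Group G] [Dl G] [Finite G]

/-- BG 10.6. -/
theorem mFT_proper_plength1 (hG : Ctx G) {p : ℕ} (hp : p.Prime) {H : Subgroup G}
    (hH : Loc H) : PLengthLE p 1 H := by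
  obtain ⟨M, hM, hHM⟩ := mmax_exists hH
  refine plength1S hp hHM ?_
  have hs := mmax_sol hG hM
  by_cases hr : pRank p M ≤ 2
  · exact rank2_plength1 hp hs (mFT_odd hG M) hr
  have hα : p ∈ alpha M := mem_alpha_iff.2 ⟨hp, not_le.1 hr⟩
  refine plength1_of_normal_p'index hp (Malpha_normal M) ((Malpha_Hall hG hM).2.2 p hp hα) ?_
  obtain ⟨K, hK⟩ := Hall_exists (alpha M)ᶜ hs
  have hsd := sdprod_normal_pHall (Malpha_normal M) (Malpha_Hall hG hM) hK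
  have hc := pnat_coprime (Malpha_pgroup M) (pHall_pgroup hK)
  rw [← (coprime_der1_sdprod hsd hc (solvableS (Malpha_normal M).le hs) (Malpha_der1 hG hM)).1]
  have hlt := sol_der1_proper hs (mmax_neq1 hG hM)
  obtain ⟨q, hq, hqd⟩ := Nat.exists_prime_and_dvd
    (fun h => hlt.not_ge (Subgroup.relIndex_eq_one.1 h))
  haveI := Fact.mk hq
  have hqσ := der1_quo_sigma' hG hM hqd
  obtain ⟨Q, hQ⟩ := Sylow_exists q K
  have hQM : IsSylowOf q Q M := subHall_Sylow hK (fun h => hqσ (alpha_sub_sigma hG hM h)) hQ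
  obtain ⟨x, hx, ho, hZ⟩ := cent1_sigma'_Zgroup' hG hM hq hqσ hQM
    (Sylow_ne_bot hQM (hqd.trans (Dvd.intro_left _ (card_mul_relIndex_of_le hlt.le))))
  refine odd_sdprod_Zgroup_cent_prime_plength1 hp hs (mFT_odd hG M) hsd hc
    (R₀ := Subgroup.zpowers x) (Subgroup.zpowers_le.2 (hQ.1 hx.1)) ?_ (by rwa [cent_zpowers])
  rwa [Nat.card_zpowers, ho]

/-- A maximal subgroup containing the normalizer of a nontrivial Sylow subgroup. -/
theorem X10.exists_mmax_Sylow (hG : Ctx G) {p : ℕ} (hp : p.Prime) {P : Subgroup G}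
    (hP : IsSylowOf p P ⊤) (h1 : P ≠ ⊥) (hd : p ∈ dl G := by dlt) :
    ∃ M, Mx M ∧ 𝐍 P ≤ M ∧ IsSylowOf p P M ∧ p ∈ sigma M := by
  obtain ⟨M, hM, hN⟩ := mmax_exists_norm hG h1 (dg_of_sylow hP hd)
  have hS : IsSylowOf p P M := pHall_subl ((normG P).trans hN) le_top hP
  exact ⟨M, hM, hN, hS, mem_sigma_of_Sylow hM.1 hp hS hN⟩

/-- BG 10.7(a), second part. -/
theorem mFT_Sylow_der1 (hG : Ctx G) {p : ℕ} (hp : p.Prime) {P : Subgroup G}
    (hP : IsSylowOf p P ⊤) (hd : p ∈ dl G := by dlt) : P ≤ ⁅𝐍 P, 𝐍 P⁆ := by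
  by_cases h1 : P = ⊥
  · exact h1.le.trans bot_le
  obtain ⟨M, hM, -, hS, hσ⟩ := X10.exists_mmax_Sylow hG hp hP h1
  exact (plength1_Sylow_sub_der1 hp hS (mFT_proper_plength1 hG hp hM.1)
    (sigma_Sylow_sub_der1 hG hM hσ hS)).trans (dergS inf_le_right)

/-- BG 10.7(a), first part. -/
theorem mFT_Sylow_sdprod_commg (hG : Ctx G) {p : ℕ} (hp : p.Prime)
    {P V : Subgroup G} (hP : IsSylowOf p P ⊤) (hV : SDProd P V (𝐍 P))
    (hd : p ∈ dl G := by dlt) : ⁅P, V⁆ = P := by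
  haveI := Fact.mk hp
  have h := hV.isPiHallOf_left_iff.1 (pHall_subl (normG P) le_top hP)
  exact (coprime_der1_sdprod hV (pnat_coprime h.1 h.2) (pgroup_sol (Sylow_pgroup hP))
    (mFT_Sylow_der1 hG hp hP)).1

/-- BG 10.7(b), with all the information given by BG 4.16. -/
theorem mFT_rank2_Sylow_cprod' (hG : Ctx G) {p : ℕ} (hp : p.Prime)
    {P : Subgroup G} (hP : IsSylowOf p P ⊤) (hr : rank P ≤ 2) (hab : ¬ IsMulCommutative P)
    (hd : p ∈ dl G := by dlt) :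
    ∃ S C : Subgroup G, ¬ IsMulCommutative S ∧ Nat.card S = p ^ 3 ∧
      (∀ x ∈ S, x ^ p = 1) ∧ CProd S C P ∧ IsCyclic C ∧ omegaOne p C = ⁅S, S⁆ ∧
      centerOf S = ⁅S, S⁆ ∧ Nat.card ↥⁅S, S⁆ = p ∧ S = omegaOne p P ∧ C = P ⊓ 𝐂 S := by
  haveI := Fact.mk hp
  have hS : IsSylowOf p P (𝐍 P) := pHall_subl (normG P) le_top hP
  obtain ⟨V, hV⟩ := exists_sdprod_of_isPiHallOf (normalG P) hS
  have h1 : P ≠ ⊥ := by
    rintro rfl
    exact hab abelian_bot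
  have hL := loc_norm h1 (dg_of_sylow hP hd)
  exact (rank2_coprime_comm_cprod hp (Sylow_pgroup hP) (mFT_odd hG P) h1 hr
    (mFT_Sylow_sdprod_commg hG hp hP hV)
    ((p'group_iff_coprime hp).1 (hV.isPiHallOf_left_iff.1 hS).2) (mFT_odd hG V (hL.mono hV.le_right))).2.resolve_left hab

/-- BG 10.7(b). -/
theorem mFT_rank2_Sylow_cprod (hG : Ctx G) {p : ℕ} (hp : p.Prime)
    {P : Subgroup G} (hP : IsSylowOf p P ⊤) (hr : rank P ≤ 2) (hab : ¬ IsMulCommutative P)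
    (hd : p ∈ dl G := by dlt) :
    ∃ S C : Subgroup G, ¬ IsMulCommutative S ∧ Nat.card S = p ^ 3 ∧ (∀ x ∈ S, x ^ p = 1) ∧
      IsCyclic C ∧ CProd S C P ∧ omegaOne p C = centerOf S := by
  obtain ⟨S, C, h1, h2, h3, h4, h5, h6, h7, -⟩ := mFT_rank2_Sylow_cprod' hG hp hP hr hab
  exact ⟨S, C, h1, h2, h3, h5, h4, h6.trans h7.symm⟩

end Cfsg.Lib.FT.PG
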