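import Cfsg.Agent.PG.BG10.T6

/-!
Bender-Glauberman, section 10: Lemma 10.8, Corollary 10.9.
-/

set_option autoImplicit false
set_option linter.unusedSectionVars false
set_option maxHeartbeats 400000

open Pointwise Cfsg Cfsg.Lib.Solv

namespace Cfsg.Lib.FT.PG

variable {G : Type*} [Group G] [Dl G] [Finite G]

/-- BG 10.8(c). -/
theorem beta_max_pdiv (hG : Ctx G) {M : Subgroup G} (hM : Mx M) {p : ℕ}
    (hp : p.Prime) (hβ : p ∉ beta M) :
    IsPiHallOf {p}ᶜ (piCoreOf {p}ᶜ ⁅M, M⁆) ⁅M, M⁆ ∧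
      IsPiHallOf {p}ᶜ (piCoreOf {p}ᶜ (sigmaCore M)) (sigmaCore M) ∧
      ∀ q : ℕ, q.Prime → q ∣ (piCoreOf {p}ᶜ M).relIndex M → q ≤ p := by
  obtain ⟨P, hP⟩ := X10.syl_exists hp M
  have hn : IsNarrow p P := by
    by_contra h
    exact hβ ((mem_beta_iff_not_narrow hG hM hp hP).2 h)
  obtain ⟨h1, h2⟩ := narrow_der1_complement_max_pdiv hp (mFT_odd hG M) (mmax_sol hG hM) hP hn
    fun _ => mFT_proper_plength1 hG hp hM.1
  refine ⟨h1, ?_, h2⟩
  have hN : sigmaCore M ⊲ ⁅M, M⁆ := normalS (Msigma_der1 hG hM) (der_sub M) (Msigma_normal M)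
  rw [← pcore_setI_normal _ hN]
  exact setI_normal_Hall hN h1

/-- `M'` has a normal Hall `π`-subgroup for every `π ⊇ β(M)`. -/
theorem X10.core_hall_der1 (hG : Ctx G) {M : Subgroup G} (hM : Mx M)
    {π : Set ℕ} (h : beta M ⊆ π) : IsPiHallOf π (piCoreOf π ⁅M, M⁆) ⁅M, M⁆ := by
  obtain ⟨K, hK⟩ := Hall_exists π (sub_mmax_sol hG hM (der_sub M))
  have : K ≤ piCoreOf π ⁅M, M⁆ := X10.le_core_of_forall hK.1 fun p hp hπ =>
    (sub_Hall_pcore (beta_max_pdiv hG hM hp fun hβ => hπ (h hβ)).1 hK.1).2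
      (pi_p'group (pHall_pgroup hK) hπ)
  rwa [le_antisymm (pcore_sub_Hall hK) this]

theorem Mbeta_der1 (hG : Ctx G) {M : Subgroup G} (hM : Mx M) :
    betaCore M ≤ ⁅M, M⁆ := (Mbeta_sub_Msigma hG hM).trans (Msigma_der1 hG hM)

theorem X10.Mbeta_Hall_der1 (hG : Ctx G) {M : Subgroup G} (hM : Mx M) :
    IsPiHallOf (beta M) (betaCore M) ⁅M, M⁆ := by
  have := X10.core_hall_der1 hG hM subset_rfl
  rwa [← pcore_setI_normal _ (der_normal M), ← betaCore_def,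
    inf_eq_left.2 (Mbeta_der1 hG hM)] at this

/-- BG 10.8(b), quotient form. -/
theorem Mbeta_quo_nil (hG : Ctx G) {M : Subgroup G} (hM : Mx M) :
    NilMod ⁅M, M⁆ (betaCore M) := by
  haveI := (Mbeta_normal M).subgroupOf
  rw [← nilpotent_img_qmk_iff (L := M) (der_sub M)]
  have hβ : IsPiSubgroup (beta M)ᶜ (img (qmk M (betaCore M)) ⁅M, M⁆) := by
    intro r hr hd
    rw [card_img_qmk (der_sub M)] at hd
    exact pHall_index (X10.Mbeta_Hall_der1 hG hM) r hr hd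
  refine nilpotent_of_Sylow_normal fun r hr hd => ?_
  have h := X10.core_hall_der1 hG hM (π := beta M ∪ {r}) Set.subset_union_left
  refine ⟨_, eq_in_pHall (fun s hs hsd => ?_) (pHall_img (qmk M (betaCore M)) (der_sub M) h),
    img_norms _ (pcore_normal _ _).norm⟩
  exact ⟨fun h => h.resolve_left (hβ s hs hsd), Or.inr⟩

/-- BG 10.8(b). -/
theorem beta'_der1_nil (hG : Ctx G) {M H : Subgroup G} (hM : Mx M)
    (hH : IsPiSubgroup (beta M)ᶜ H) (hHM : H ≤ ⁅M, M⁆) : Group.IsNilpotent H :=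
  X10.nil_of_nilMod (Mbeta_quo_nil hG hM) hHM (pgroup_TI (Mbeta_pgroup M) hH)

/-- `M_β X` is normal in `M` for a Hall subgroup `X` of `M'`. -/
theorem Mbeta_sup_Hall_der1_normal (hG : Ctx G) {M X : Subgroup G}
    (hM : Mx M) {π : Set ℕ} (hX : IsPiHallOf π X ⁅M, M⁆) : betaCore M ⊔ X ⊲ M :=
  ⟨sup_le (Mbeta_normal M).le (hX.1.trans (der_sub M)), X10.norm_sup_hall_of_nilMod
    (Mbeta_normal M) (der_sub M) (der_normal M).norm (Mbeta_quo_nil hG hM) hX⟩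

/-- If `X` is a Sylow `q`-subgroup of `M'`, then `M = M_β N_M(X)` (used in 10.9 and later). -/
theorem Mbeta_mul_norm_Sylow_der1 (hG : Ctx G) {M X : Subgroup G}
    (hM : Mx M) {q : ℕ} (hq : q.Prime) (hX : IsSylowOf q X ⁅M, M⁆) :
    betaCore M ⊔ (M ⊓ 𝐍 X) = M := by
  have := X10.frattini_arg hq (Mbeta_sup_Hall_der1_normal hG hM hX)
    (pHall_subl le_sup_right (sup_le (Mbeta_der1 hG hM) hX.1) hX)
  rwa [sup_assoc, sup_eq_right.2 (le_inf (hX.1.trans (der_sub M)) (normG X))] at this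

/-- BG 10.9(a), a stronger form of the first part. -/
theorem beta'_cent_Sylow_der1 (hG : Ctx G) {M X : Subgroup G} (hM : Mx M)
    {p q : ℕ} (hp : p.Prime) (hq : q.Prime) (hpβ : p ∉ beta M) (hqβ : q ∉ beta M)
    (hX : IsPGroup q X) (h : (p ≠ q ∧ X ≤ ⁅M, M⁆) ∨ (p < q ∧ X ≤ M)) :
    ∃ P, IsSylowOf p P ⁅M, M⁆ ∧ X ≤ 𝐂 P := by
  haveI := Fact.mk hp
  haveI := Fact.mk hq
  have hpq : p ≠ q := h.elim (fun h => h.1) fun h => h.1.ne
  have hXM : X ≤ M := h.elim (fun h => h.2.trans (der_sub M)) fun h => h.2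
  obtain ⟨S, hS⟩ := Sylow_exists p (⁅M, M⁆ : Subgroup G)
  have hN := Mbeta_sup_Hall_der1_normal hG hM hS
  have hc : (Nat.card (betaCore M ⊔ S : Subgroup G)).Coprime (Nat.card X) :=
    p'nat_coprime (π := {q}) (pgroupY (hS.1.trans ((der_sub M).trans (Mbeta_normal M).norm))
      (pi_p'group (Mbeta_pgroup M) hqβ) (pgroup_p'group_of_ne (Sylow_pgroup hS) hpq))
      (pgroup_iff.2 hX)
  obtain ⟨P, hP, hXP⟩ := coprime_Hall_exists {p} (hXM.trans hN.norm) hc (sub_mmax_sol hG hM hN.le)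
  have hd : betaCore M ⊔ S ≤ ⁅M, M⁆ := sup_le (Mbeta_der1 hG hM) hS.1
  have hP' : IsSylowOf p P ⁅M, M⁆ := pHall_of_card hS (hP.1.trans hd)
    (eq_card_Hall hP (pHall_subl le_sup_right hd hS))
  refine ⟨P, hP', ?_⟩
  rcases h with h | h
  · exact sub_nilpotent_cent2 (beta'_der1_nil hG hM (pgroupY hXP (pi_pgroup (Sylow_pgroup hP) hpβ)
      (pi_pgroup hX hqβ)) (sup_le hP'.1 h.2)) le_sup_left le_sup_right
      (pgroup_coprime_of_ne (Sylow_pgroup hP) hX hpq)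
  · have h1 : X ≤ piCoreOf {p}ᶜ M := X10.le_of_normal_index (pcore_normal _ M) hXM
      (pgroup_iff.2 hX) fun r _ hr hd =>
        ((beta_max_pdiv hG hM hp hpβ).2.2 q hq (hr ▸ hd)).not_gt h.1
    rw [← commG1P, ← le_bot_iff, ← pgroup_TI (pHall_pgroup hP) (pcore_pgroup {p}ᶜ M)]
    exact le_inf (commg_subr.2 hXP) ((commgSS h1 (hP'.1.trans (der_sub M))).trans
      (commg_subl.2 (pcore_normal _ M).norm))

/-- BG 10.9(a). -/
theorem beta'_cent_Sylow (hG : Ctx G) {M X : Subgroup G} (hM : Mx M)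
    {p q : ℕ} (hp : p.Prime) (hq : q.Prime) (hpβ : p ∉ beta M) (hqβ : q ∉ beta M)
    (hX : IsPGroup q X) (h : (p ≠ q ∧ X ≤ ⁅M, M⁆) ∨ (p < q ∧ X ≤ M)) :
    (∃ P, IsSylowOf p P (sigmaCore M) ∧ X ≤ 𝐂 P) ∧
      (p ∈ alpha M → InUniqueMaximal (M ⊓ 𝐂 X)) ∧
      (IsSylowOf q X ⁅M, M⁆ → ∃ P, IsSylowOf p P ⁅M, M⁆ ∧ P ≤ ⁅M ⊓ 𝐍 X, M ⊓ 𝐍 X⁆) := by
  haveI := Fact.mk hp
  obtain ⟨P, hP, hXP⟩ := beta'_cent_Sylow_der1 hG hM hp hq hpβ hqβ hX h
  have hP' : IsSylowOf p (P ⊓ sigmaCore M) (sigmaCore M) :=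
    setI_normal_Hall (normalS (Msigma_der1 hG hM) (der_sub M) (Msigma_normal M)) hP
  refine ⟨⟨_, hP', hXP.trans (centS inf_le_left)⟩, fun hα => ?_, fun hS => ?_⟩
  · refine rank3_Uniqueness hG (sub_mmax_proper hM inf_le_left) (le_trans ?_ (rankS
      (inf_le_left.trans (le_inf (hP.1.trans (der_sub M)) (centsC.1 hXP)) :
        P ⊓ sigmaCore M ≤ M ⊓ 𝐂 X)))
    rw [rank_Sylow hP', p_rank_Hall (Msigma_Hall hG hM) (alpha_sub_sigma hG hM hα)]
    exact (mem_alpha_iff.1 hα).2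
  · obtain ⟨R, hR⟩ := Sylow_exists p (⁅M ⊓ 𝐍 X, M ⊓ 𝐍 X⁆ : Subgroup G)
    refine ⟨R, ?_, hR.1⟩
    have h1 := X10.hall_sup (((der_sub _).trans inf_le_left).trans (Mbeta_normal M).norm)
      (pi_p'group (Mbeta_pgroup M) hpβ) hR
    rwa [le_antisymm (sup_le (Mbeta_der1 hG hM) (dergS inf_le_left))
      (X10.der_le_sup (Mbeta_normal M) (Mbeta_mul_norm_Sylow_der1 hG hM hq hS))] at h1

/-- BG 10.9(b). -/
theorem nonuniq_norm_Sylow_pprod (hG : Ctx G) {M H S : Subgroup G}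
    (hM : Mx M) (hH : Mx H) (hHM : H ≠ M) {p : ℕ} (hp : p.Prime)
    (hS : IsSylowOf p S ⊤) (hN : 𝐍 S ≤ H ⊓ M) (hd : p ∈ dl G := by dlt) :
    betaCore M ⊔ (H ⊓ M) = M ∧ alpha M = beta M := by
  haveI := Fact.mk hp
  have hSM : S ≤ M := (normG S).trans (hN.trans inf_le_right)
  have hS' : IsSylowOf p S M := pHall_subl hSM le_top hS
  have hσ : p ∈ sigma M := mem_sigma_of_Sylow hM.1 hp hS' (hN.trans inf_le_right)
  have hα : p ∉ alpha M := fun hα => hHM (uniq_mmax_eq (rank3_Uniqueness hG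
    (sub_mmax_proper hM hSM) (by rw [rank_Sylow hS']; exact (mem_alpha_iff.1 hα).2)) hM hSM hH
    ((normG S).trans (hN.trans inf_le_left)))
  have hSd := sigma_Sylow_sub_der1 hG hM hσ hS'
  constructor
  · refine le_antisymm (sup_le (Mbeta_normal M).le inf_le_right) ?_
    exact (Mbeta_mul_norm_Sylow_der1 hG hM hp (pHall_subl hSd (der_sub M) hS')).ge.trans
      (sup_le_sup_left (inf_le_right.trans hN) _)
  · refine Set.Subset.antisymm (fun r hr => ?_) (beta_sub_alpha M)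
    by_contra hβ
    have hU := (beta'_cent_Sylow hG hM hr.1 hp hβ (fun h => hα h.1) (Sylow_pgroup hS)
      (Or.inl ⟨fun e => hα (e ▸ hr), hSd⟩)).2.1 hr
    exact hHM (uniq_mmax_eq hU hM inf_le_left hH
      (inf_le_right.trans ((cent_sub S).trans (hN.trans inf_le_left))))

end Cfsg.Lib.FT.PG
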