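import Cfsg.Agent.PG.BG10Defs

/-!
Small private toolkit for sections 10 and 11 (Sylow subgroups, cores, ranks, maximal subgroups of
a minimal counterexample).
-/

set_option autoImplicit false
set_option linter.unusedSectionVars false

open Pointwise Cfsg Cfsg.Lib.Solv Cfsg.Lib.FT.BG4

namespace Cfsg.Lib.FT.PG.X10

open Cfsg.Lib.FT.X10

variable {G : Type*} [Group G] [Dl G] {p q : ℕ} {π : Set ℕ} {A B H K L M N P Q R S X Y : Subgroup G}
  {g x : G}

section Min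

variable (hG : Ctx G)
include hG

theorem odd (H : Subgroup G) (h : Loc H := by loc) : Odd (Nat.card H) := hG.odd H h

theorem sol (h : Loc H) : Group.IsSolvable H := mFT_sol hG h

theorem not_sol_top : ¬ Group.IsSolvable (⊤ : Subgroup G) := mFT_top_nonSolvable hG

theorem pgroup_ne_top [Finite G] (hp : p.Prime) (h : IsPGroup p H)
    (hd : p ∈ dl G := by dlt) : Loc H :=
  haveI := Fact.mk hp
  mFT_pgroup_proper hG h hd

theorem pgroup_dg [Finite G] (hp : p.Prime) (h : IsPGroup p H)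
    (hd : p ∈ dl G := by dlt) : DG H :=
  haveI := Fact.mk hp
  dg_of_pgroup h hd

theorem norm_ne_top (h1 : H ≠ ⊥) (h2 : DG H) : Loc (𝐍 H) := loc_norm h1 h2

theorem cent_ne_top (h1 : H ≠ ⊥) (h2 : DG H := by dlt) : Loc (𝐂 H) := loc_cent h1 h2

theorem cent1_ne_top (h1 : x ≠ 1) (h2 : PiElt (dl G) x := by dlt) : Loc (𝐂₁ x) :=
  loc_cent1 h1 h2

theorem mmax_normal (hM : Mx M) (hH : H ⊲ M) (h1 : H ≠ ⊥) : 𝐍 H = M :=
  PG.mmax_normal hG hM hH h1

theorem mmax_ne_bot [Finite G] (hM : Mx M) : M ≠ ⊥ := mmax_neq1 hG hM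

theorem norm_mmax [Finite G] (hM : Mx M) : 𝐍 M = M := PG.norm_mmax hG hM

theorem mem_of_conj_eq [Finite G] (hM : Mx M) (h : g •ᶜ M = M) : g ∈ M := by
  rw [← norm_mmax hG hM]; exact normP.2 h

end Min

theorem mmax_exists [Finite G] (h : Loc H) : ∃ M, Mx M ∧ H ≤ M := PG.mmax_exists h

theorem uniq_eq (h : InUniqueMaximal X) (hM : Mx M) (hL : Mx L) (h1 : X ≤ M)
    (h2 : X ≤ L) : L = M :=
  h.unique ⟨hL, h2⟩ ⟨hM, h1⟩

theorem uniq_sub [Finite G] (h : InUniqueMaximal X) (hM : Mx M) (h1 : X ≤ M) (h2 : X ≤ H)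
    (hH : Loc H) : H ≤ M := by
  obtain ⟨L, hL, hHL⟩ := mmax_exists hH
  rw [← uniq_eq h hM hL h1 (h2.trans hHL)]
  exact hHL

theorem ne_top_of_le (hM : Mx M) (h : H ≤ M) : Loc H := hM.sub h

end Cfsg.Lib.FT.PG.X10
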